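import Cfsg.Agent.H396.Rg.SpEight
import Cfsg.Agent.H735.Rg.LoEight

/-!
# S3691 (T9): `sp_eight` (helper396)
-/

set_option autoImplicit false

namespace Cfsg.Agent.H396.Rg

open Module QuadraticMap Cfsg Cfsg.Geo Cfsg.Agent.LieClassical.OrthCore Cfsg.Agent.LieClassical.OrthTrans
  Cfsg.Agent.H955 Cfsg.Agent.H954.TSing Cfsg.Agent.H884.El Cfsg.Agent.H278.Cov Cfsg.Agent.H449.Reg
open Cfsg.Agent.H951 (fx cm Inv)

universe v

variable {F : Type} [Field F] [Fintype F] {V : Type v} [AddCommGroup V] [Module F V] [FiniteDimensional F V]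
  {Q : QuadraticForm F V} {H A : Subgroup (V ≃ₗ[F] V)}

theorem loEight : LoEight.{v} := fun hp hF h5 hQ hn hH _ hg hr ho hbig =>
  Cfsg.Agent.H735.Rg.lo_eight hp hF h5 hQ hn hH hg hr ho hbig

/-- (T9) symplectic, dimension eight, `q ≥ 8` even, `r_8` -/
theorem sp_eight {f r a : ℕ} (hF : Fintype.card F = 2 ^ f) (h5 : 5 ≤ 2 ^ f) (hQ : Nondeg Q)
    (hn : finrank F V = 8) (hH : ∀ h ∈ H, ∀ u v, polar Q (h u) (h v) = polar Q u v)
    {g : V ≃ₗ[F] V} (hg : g ∈ H) (hr : PP 2 (f * 8) r) (ho : orderOf g = r ^ a) (hbig : 17 < r ^ a) :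
    AExt 2 H ∨ (∀ x : V ≃ₗ[F] V, (∀ u v, polar Q (x u) (x v) = polar Q u v) → x ∈ H) ∨
    (∃ Q' : QuadraticForm F V, (∀ u v, polar Q' u v = polar Q u v) ∧ E Q' ≤ H) :=
  sp_eight_of loEight hF h5 hQ hn hH hg hr ho hbig

end Cfsg.Agent.H396.Rg
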