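import Cfsg.Agent.H449.Reg.Abs
import Cfsg.Agent.H248.Cov.Sp8
import Cfsg.Agent.H96.Rg.SixCore
import Cfsg.Agent.H851.Rl.List
import Cfsg.Agent.S5823
import Cfsg.Agent.S5824

/-!
# S3691 (T9): symplectic groups of dimension eight, `q ≥ 8` even (helper396)

* `ovr` : the maximal subgroups of `Sp_8(2 ^ f)`, `f ≥ 3`, which contain an element of order `r₈` : field extension or orthogonal
* `sp_eight_of` : the statement T9 with T8 (`lo_eight`) as hypothesis
-/

set_option autoImplicit false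

namespace Cfsg.Agent.H396.Rg

open Cfsg Cfsg.Geo Module QuadraticMap Cfsg.Agent.LieClassical.OrthCore Cfsg.Agent.LieClassical.OrthTrans
  Cfsg.Agent.H955 Cfsg.Agent.H954.TSing Cfsg.Agent.H884.El Cfsg.Agent.H278.Cov Cfsg.Agent.H449.Reg
open Cfsg.Agent.H951 (fx cm Inv)
open Cfsg.Agent.LieClassical.OrthFinite (glEquiv glEquiv_apply)
open Cfsg.Agent.H876 (spToGL)
open scoped MatrixGroups Matrix

universe v

section ovr

variable {F : Type} [Field F] [Fintype F]

omit [Fintype F] in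
/-- similarities of a quadratic form which are isometries of its polar form are isometries -/
theorem sim_le {m : ℕ} (hm : 1 ≤ m) {Q : (Fin m ⊕ Fin m → F) → F}
    (hpol : ∀ u v : (Fin m ⊕ Fin m → F), polar Q u v = sympForm m F u v) :
    quadSimilarityGroup Q ⊓ spGL m F ≤ Cfsg.isometryGroup F Q := by
  rintro g ⟨⟨c, hc⟩, hg⟩
  rw [H925.mem_iso_iff]
  have h1 : ∀ u v : (Fin m ⊕ Fin m → F), sympForm m F ((g : Matrix (Fin m ⊕ Fin m) (Fin m ⊕ Fin m) F) *ᵥ u)
      ((g : Matrix (Fin m ⊕ Fin m) (Fin m ⊕ Fin m) F) *ᵥ v) = sympForm m F u v := fun u v => hg u v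
  have h2 : ∀ u v : (Fin m ⊕ Fin m → F), (c : F) * sympForm m F u v = sympForm m F u v := by
    intro u v
    have h3 : polar Q ((g : Matrix (Fin m ⊕ Fin m) (Fin m ⊕ Fin m) F) *ᵥ u)
        ((g : Matrix (Fin m ⊕ Fin m) (Fin m ⊕ Fin m) F) *ᵥ v) = (c : F) * polar Q u v := by
      rw [polar, polar, ← Matrix.mulVec_add, hc, hc, hc]
      ring
    rw [hpol, hpol, h1] at h3
    exact h3.symm
  obtain ⟨u, v, huv⟩ : ∃ u v : (Fin m ⊕ Fin m → F), sympForm m F u v ≠ 0 := by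
    by_contra hcon
    push Not at hcon
    have h3 := (ClassicalGeometry.SympBasic.sympBilin_nondegenerate (m := m) (F := F)).1
      (Pi.single (Sum.inl ⟨0, hm⟩) 1) (fun v => hcon _ v)
    have h4 := congrFun h3 (Sum.inl ⟨0, hm⟩)
    rw [Pi.single_eq_same] at h4
    exact one_ne_zero h4
  have h3 : (c : F) = 1 := by
    have := h2 u v
    exact mul_right_cancel₀ huv (by rw [this, one_mul])
  intro v
  rw [hc, h3, one_mul]

/-- **the maximal subgroups of `Sp_8(2 ^ f)` over an element of order `r₈`** -/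
theorem ovr {f r : ℕ} (hf : 3 ≤ f) (hF : Fintype.card F = 2 ^ f) (hr : PP 2 (f * 8) r)
    {M : Subgroup (GL (Fin 4 ⊕ Fin 4) F)} (hM : IsMaximalIn (spGL 4 F) M) {y : GL (Fin 4 ⊕ Fin 4) F} (hy : y ∈ M)
    (hyr : y ^ r = 1) (hy1 : y ≠ 1) :
    (∃ K : Subalgebra F (Matrix (Fin 4 ⊕ Fin 4) (Fin 4 ⊕ Fin 4) F), IsFieldSubalgebra 2 K ∧
      M ≤ subalgebraNormalizer K) ∨
    (∃ Q : (Fin 4 ⊕ Fin 4 → F) → F, IsNondegenerateQuadraticForm Q ∧
      (∀ u v : (Fin 4 ⊕ Fin 4 → F), polar Q u v = sympForm 4 F u v) ∧ M ≤ Cfsg.isometryGroup F Q) := by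
  have hι : Fintype.card (Fin 4 ⊕ Fin 4) = 8 := by simp
  have hq := one_lt_q F
  have hf1 : 1 ≤ f := by omega
  have hFn : Nat.card F = 2 ^ f := by rw [Nat.card_eq_fintype_card, hF]
  have hrq : PP (Nat.card F) 8 r := by
    rw [hFn]
    exact PP.of_pow hr hf1
  have hod := Cfsg.Agent.H248.Cov.od_of_pp hF hf1 (by norm_num) hr
  have hrd := hod.lt
  have hdvd := Cfsg.Agent.H248.Cov.card_dvd_of_mem hr.prime hy hyr hy1
  have hodd : ¬ Odd (Fintype.card F) := by
    rw [hF, Nat.not_odd_iff_even]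
    exact Even.pow_of_ne_zero (by decide) (by omega)
  have hirr : ∀ W : Submodule F (Fin 4 ⊕ Fin 4 → F), M ≤ subspaceStabilizer W → W = ⊥ ∨ W = ⊤ := fun W hW =>
    Cfsg.Agent.H262.El.irr_of_od (by rw [hι]; exact hod) hyr hy1 W (fun v hv =>
      (Cfsg.Agent.H918.mem_subspaceStabilizer.1 (hW hy) v).1 hv)
  have hdec : ∀ (t k : ℕ) (D : Fin t → Submodule F (Fin 4 ⊕ Fin 4 → F)), k < 6 → t < 6 → IsMDecomposition k D →
      ¬ M ≤ decompositionStabilizer D := by
    intro t k D hk ht hD hH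
    have := decomp_le hD hH hrq (by omega) hdvd
    omega
  rcases Cfsg.Agent.S5823.result M hM with ⟨W, h1, h2, e⟩ | ⟨W, h1, h2, h3, e⟩ | ⟨-, D, hD, e⟩ | ⟨D, hD, e⟩ |
    ⟨h, -⟩ | ⟨K, h1, h2, -, e⟩ | ⟨h, -⟩ | ⟨h, -⟩ |
    ⟨F₀, s, P, ζ, hs, hcard, -, -, e⟩ | ⟨p', R, -, hp', hcard, -⟩ | ⟨h, -⟩ |
    ⟨-, Q, hQ, hpol, e⟩ | h
  · exfalso
    rcases hirr W (by rw [e]; exact inf_le_left) with h | h
    · exact h1 h
    · exact Cfsg.Agent.H262.El.totallySingular_ne_top (by norm_num) h2 h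
  · exfalso
    rcases hirr W (by rw [e]; exact inf_le_left) with h | h
    · exact h1 h
    · rw [h, finrank_top, Module.finrank_fintype_fun_eq_card, hι] at h3
      omega
  · exact absurd (by rw [e]; exact inf_le_left) (hdec 4 2 D (by norm_num) (by norm_num) hD.decomp)
  · exact absurd (by rw [e]; exact inf_le_left) (hdec 2 4 D (by norm_num) (by norm_num) hD.decomp)
  · exact absurd h hodd
  · exact Or.inl ⟨K, h1, by rw [e]; exact inf_le_left⟩
  · exact absurd h hodd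
  · exact absurd h hodd
  · exfalso
    exact (kill_subfield (by rw [e]; exact inf_le_left) hs (by rw [Nat.card_eq_fintype_card]; exact hcard)
      Nat.prime_two hFn hr (by rw [hι]; omega) (by omega) hdvd).elim
  · exfalso
    rw [← hcard] at hp'
    exact hodd hp'
  · exact absurd h hodd
  · exact Or.inr ⟨Q, hQ, hpol, by rw [e]; exact sim_le (by norm_num) hpol⟩
  · exfalso
    obtain ⟨P, p, -, hp, hch, h⟩ := Cfsg.Agent.S5824.result M hM h
    have hch2 : CharP F 2 := H96.Rg.charP_two hF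
    have hp2 : p = 2 := CharP.eq F hch hch2
    subst hp2
    have h8 : 2 ^ 3 ≤ 2 ^ f := Nat.pow_le_pow_right (by norm_num) hf
    rw [← hF] at h8
    norm_num at h8
    rcases h with ⟨-, h, -⟩ | ⟨-, h | h⟩ | ⟨-, h | h⟩ | ⟨-, h⟩ | ⟨-, h⟩ | ⟨-, h⟩
    · omega
    · omega
    · omega
    · omega
    · omega
    · omega
    · omega
    · exact hodd h

end ovr

section abs

variable {F : Type} [Field F] [Fintype F] {V : Type v} [AddCommGroup V] [Module F V] [FiniteDimensional F V]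
  {Q : QuadraticForm F V} {H : Subgroup (V ≃ₗ[F] V)}

/-- (T8) as a statement -/
def LoEight : Prop := ∀ {F : Type} [Field F] [Fintype F] {V : Type v} [AddCommGroup V] [Module F V]
    [FiniteDimensional F V] {Q : QuadraticForm F V} {H : Subgroup (V ≃ₗ[F] V)}
    {p f r a : ℕ}, p.Prime → Fintype.card F = p ^ f → 5 ≤ p ^ f → Nondeg Q →
    finrank F V = 8 → H ≤ O Q → ∀ {g : V ≃ₗ[F] V}, g ∈ H → PP p (f * 8) r → orderOf g = r ^ a →
    17 < r ^ a → AExt 2 H ∨ E Q ≤ H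

/-- `AExt` from coordinates with any index type -/
theorem aext_of {ι : Type} [Fintype ι] [DecidableEq ι] {n s : ℕ} (e : Fin n ≃ ι) (φ : V ≃ₗ[F] (ι → F)) (hs : s.Prime)
    {K : Subalgebra F (Matrix ι ι F)} (hK : IsFieldSubalgebra s K)
    (hle : H.map (H96.Rg.cj φ).toMonoidHom ≤ subalgebraNormalizer K) : AExt s H := by
  let φ' : V ≃ₗ[F] (Fin n → F) := φ.trans (LinearEquiv.funCongrLeft F F e)
  refine ⟨n, φ', K.map (Matrix.reindexAlgEquiv F F e.symm : Matrix ι ι F →ₐ[F] Matrix (Fin n) (Fin n) F), hs,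
    Cfsg.Agent.H851.Rl.field_back e hK, ?_⟩
  have key : ∀ h : V ≃ₗ[F] V, Matrix.reindexAlgEquiv F F e (H449.Reg.cj φ' h : Matrix (Fin n) (Fin n) F) =
      (H96.Rg.cj φ h : Matrix ι ι F) := by
    intro h
    apply Matrix.ext_of_mulVec_single
    intro i
    set v : ι → F := Pi.single i 1
    rw [H96.Rg.cj_apply]
    have h1 := H449.Reg.cj_apply φ' h (v ∘ e)
    have h2 : φ'.symm (v ∘ e) = φ.symm v := by
      apply φ'.injective
      rw [φ'.apply_symm_apply]
      funext j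
      change v (e j) = φ (φ.symm v) (e j)
      rw [φ.apply_symm_apply]
    rw [h2] at h1
    funext k
    have h3 := congrFun h1 (e.symm k)
    have h4 : φ' (h (φ.symm v)) (e.symm k) = φ (h (φ.symm v)) k := by
      change φ (h (φ.symm v)) (e (e.symm k)) = _
      rw [e.apply_symm_apply]
    rw [h4] at h3
    rw [← h3]
    simp only [Matrix.mulVec, dotProduct]
    rw [← e.sum_comp]
    refine Finset.sum_congr rfl fun j _ => ?_
    simp [Matrix.coe_reindexAlgEquiv, Matrix.reindex_apply]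
  have key2 : ∀ M : Matrix (Fin n) (Fin n) F,
      M ∈ K.map (Matrix.reindexAlgEquiv F F e.symm : Matrix ι ι F →ₐ[F] Matrix (Fin n) (Fin n) F) ↔
      Matrix.reindexAlgEquiv F F e M ∈ K := by
    intro M
    constructor
    · rintro ⟨x, hx, rfl⟩
      have h2 : (Matrix.reindexAlgEquiv F F e) ((Matrix.reindexAlgEquiv F F e.symm) x) = x := by
        ext i j; simp [Matrix.coe_reindexAlgEquiv, Matrix.reindex_apply]
      change (Matrix.reindexAlgEquiv F F e) ((Matrix.reindexAlgEquiv F F e.symm) x) ∈ K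
      rwa [h2]
    · intro h2
      refine ⟨_, h2, ?_⟩
      change (Matrix.reindexAlgEquiv F F e.symm) ((Matrix.reindexAlgEquiv F F e) M) = M
      ext i j; simp [Matrix.coe_reindexAlgEquiv, Matrix.reindex_apply]
  rintro _ ⟨h, hh, rfl⟩ k
  rw [key2, key2, map_mul, map_mul]
  have h1 := hle ⟨h, hh, rfl⟩ (Matrix.reindexAlgEquiv F F e k)
  have e1 : (((H449.Reg.cj φ').toMonoidHom h)⁻¹ : GL (Fin n) F) = H449.Reg.cj φ' h⁻¹ := (map_inv _ h).symm
  have e2 : (((H96.Rg.cj φ).toMonoidHom h)⁻¹ : GL ι F) = H96.Rg.cj φ h⁻¹ := (map_inv _ h).symm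
  rw [e1]
  rw [e2] at h1
  rw [key]
  change _ ↔ Matrix.reindexAlgEquiv F F e (H449.Reg.cj φ' h : Matrix (Fin n) (Fin n) F) * _ * _ ∈ K
  rw [key]
  exact h1

/-- **(T9) symplectic, dimension eight, `q ≥ 8` even, `r_8`**, with (T8) as hypothesis -/
theorem sp_eight_of (hT8 : LoEight.{v}) {f r a : ℕ} (hF : Fintype.card F = 2 ^ f) (h5 : 5 ≤ 2 ^ f) (hQ : Nondeg Q)
    (hn : finrank F V = 8) (hH : ∀ h ∈ H, ∀ u v, polar Q (h u) (h v) = polar Q u v)
    {g : V ≃ₗ[F] V} (hg : g ∈ H) (hr : PP 2 (f * 8) r) (ho : orderOf g = r ^ a) (hbig : 17 < r ^ a) :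
    AExt 2 H ∨ (∀ x : V ≃ₗ[F] V, (∀ u v, polar Q (x u) (x v) = polar Q u v) → x ∈ H) ∨
    (∃ Q' : QuadraticForm F V, (∀ u v, polar Q' u v = polar Q u v) ∧ E Q' ≤ H) := by
  classical
  have hf : 3 ≤ f := by
    by_contra hlt
    have h1 : 2 ^ f ≤ 2 ^ 2 := Nat.pow_le_pow_right (by norm_num) (by omega)
    omega
  have hch : CharP F 2 := H96.Rg.charP_two hF
  have h2 : (2 : F) = 0 := by exact_mod_cast CharP.cast_eq_zero F 2
  obtain ⟨φ, hφ⟩ := H96.Rg.exists_coord h2 hQ (n := 4) hn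
  have key : ∀ y : V ≃ₗ[F] V, (∀ u v, polar Q (y u) (y v) = polar Q u v) → H96.Rg.cj φ y ∈ spGL 4 F := by
    intro y hy
    rw [H931.mem_spGL_iff]
    intro a b
    rw [H96.Rg.cj_apply, H96.Rg.cj_apply, hφ, hy, ← hφ, φ.apply_symm_apply, φ.apply_symm_apply]
  have hle : H.map (H96.Rg.cj φ).toMonoidHom ≤ spGL 4 F := by
    rintro _ ⟨y, hy, rfl⟩
    exact key y (hH y hy)
  set K : Subgroup (Matrix.symplecticGroup (Fin 4) F) := (H.map (H96.Rg.cj φ).toMonoidHom).comap (spToGL 4 F) with hK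
  have hKm : K.map (spToGL 4 F) = H.map (H96.Rg.cj φ).toMonoidHom := by
    apply le_antisymm (Subgroup.map_comap_le _ _)
    intro g hg
    obtain ⟨A, rfl⟩ := H931.exists_spToGL (hle hg)
    exact ⟨A, hg, rfl⟩
  have hfin : Finite (Matrix.symplecticGroup (Fin 4) F) := inferInstance
  rcases eq_top_or_exists_le_coatom K with htop | ⟨N, hN, hKN⟩
  · right; left
    intro x hx
    have h4 : H96.Rg.cj φ x ∈ H.map (H96.Rg.cj φ).toMonoidHom := by
      rw [← hKm, htop, H931.map_spToGL_top]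
      exact key x hx
    obtain ⟨y, hy, hxy⟩ := h4
    have : y = x := (H96.Rg.cj φ).injective hxy
    rwa [← this]
  · have hmax := H96.Rg.isMaximalIn_map hN
    have hHN : H.map (H96.Rg.cj φ).toMonoidHom ≤ N.map (spToGL 4 F) := by
      rw [← hKm]
      exact Subgroup.map_mono hKN
    -- the element of order `r`
    have ha : a ≠ 0 := by
      rintro rfl
      rw [pow_zero] at hbig
      omega
    have hr1 : r ^ a = r ^ (a - 1) * r := by
      rw [← pow_succ, Nat.sub_add_cancel (Nat.pos_of_ne_zero ha)]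
    have hx1 : orderOf (g ^ r ^ (a - 1)) = r := by
      rw [orderOf_pow_of_dvd (pow_ne_zero _ hr.prime.ne_zero) (by rw [ho, hr1]; exact Dvd.intro _ rfl), ho, hr1,
        Nat.mul_div_cancel_left _ (Nat.pow_pos hr.prime.pos)]
    set y := H96.Rg.cj φ (g ^ r ^ (a - 1)) with hy
    have hoy : orderOf y = r := by rw [hy, MulEquiv.orderOf_eq, hx1]
    have hyN : y ∈ N.map (spToGL 4 F) := hHN ⟨_, H.pow_mem hg _, rfl⟩
    rcases ovr hf hF hr hmax hyN (by rw [← hoy, pow_orderOf_eq_one]) (by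
        intro h1
        rw [h1, orderOf_one] at hoy
        exact hr.prime.one_lt.ne hoy) with ⟨L, hL, hNL⟩ | ⟨Q₁, hQ₁, hpol, hNQ⟩
    · left
      exact aext_of (finSumFinEquiv (m := 4) (n := 4)).symm φ Nat.prime_two hL (hHN.trans hNL)
    · let Q₂ : QuadraticForm F V := (H884.OmegaGL.bundle Q₁ hQ₁).comp (φ : V →ₗ[F] (Fin 4 ⊕ Fin 4 → F))
      have hp2 : ∀ u v, polar Q₂ u v = polar Q u v := by
        intro u v
        have e1 : polar Q₂ u v = polar Q₁ (φ u) (φ v) := by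
          change Q₁ (φ (u + v)) - Q₁ (φ u) - Q₁ (φ v) = Q₁ (φ u + φ v) - Q₁ (φ u) - Q₁ (φ v)
          rw [map_add]
        rw [e1, hpol, hφ]
      have hQ₂ : Nondeg Q₂ := by
        intro x hx
        apply hQ x
        intro y
        rw [← hp2]
        exact hx y
      have hHO : H ≤ O Q₂ := by
        intro h hh
        rw [mem_O]
        intro v
        have h1 := hNQ (hHN ⟨h, hh, rfl⟩)
        rw [H925.mem_iso_iff] at h1
        have h3 := h1 (φ v)
        change Q₁ ((H96.Rg.cj φ h : Matrix (Fin 4 ⊕ Fin 4) (Fin 4 ⊕ Fin 4) F) *ᵥ φ v) = Q₁ (φ v) at h3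
        rw [H96.Rg.cj_apply, φ.symm_apply_apply] at h3
        exact h3
      rcases hT8 Nat.prime_two hF h5 hQ₂ hn hHO hg hr ho hbig with h1 | h1
      · exact Or.inl h1
      · exact Or.inr (Or.inr ⟨Q₂, hp2, h1⟩)

end abs

end Cfsg.Agent.H396.Rg


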